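import Groth.Agent.H40.DGU.SepLQF

/-!
# Separated locally quasi-finite descent data along an fppf cover of an affine scheme
-/

set_option autoImplicit false
set_option backward.isDefEq.respectTransparency.types false
universe u

open CategoryTheory CategoryTheory.Limits AlgebraicGeometry

namespace Groth.Agent.H40.DGU

open Desc Groth.Agent.H40.DQ Groth.Agent.H40.DG

variable {X S : Scheme.{u}}

/-- an fppf cover of an affine scheme is refined by an affine fppf cover. -/
theorem exists_affine_fppf_refinement (p : X ⟶ S) [IsAffine S] [Flat p] [Surjective p]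
    [LocallyOfFinitePresentation p] :
    ∃ (X' : Scheme.{u}) (c : X' ⟶ X), IsAffine X' ∧ Flat (c ≫ p) ∧ Surjective (c ≫ p) ∧
      LocallyOfFinitePresentation (c ≫ p) := by
  let 𝒰 := X.affineCover
  have hopen : ∀ i : 𝒰.I₀, IsOpen (Set.range (𝒰.f i ≫ p)) := fun i =>
    (𝒰.f i ≫ p).isOpenMap.isOpen_range
  have hcov : (Set.univ : Set S) ⊆ ⋃ i : 𝒰.I₀, Set.range (𝒰.f i ≫ p) := by
    intro s _
    obtain ⟨x, rfl⟩ := p.surjective s
    obtain ⟨i, y, hy⟩ := 𝒰.exists_eq x
    refine Set.mem_iUnion.mpr ⟨i, y, ?_⟩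
    rw [Scheme.Hom.comp_apply, hy]
  obtain ⟨t, ht⟩ := isCompact_univ.elim_finite_subcover _ hopen hcov
  haveI : LocallyOfFinitePresentation (Sigma.desc fun j : t => 𝒰.f j.1) :=
    IsZariskiLocalAtSource.sigmaDesc (P := @LocallyOfFinitePresentation)
      (fun _ => inferInstance)
  refine ⟨∐ fun j : t => 𝒰.X j.1, Sigma.desc fun j => 𝒰.f j.1, inferInstance, inferInstance, ⟨?_⟩,
    inferInstance⟩
  intro s
  obtain ⟨i, hi⟩ := Set.mem_iUnion.mp (ht (Set.mem_univ s))
  obtain ⟨hit, y, hy⟩ := Set.mem_iUnion.mp hi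
  refine ⟨(Sigma.ι (fun j : t => 𝒰.X j.1) ⟨i, hit⟩) y, ?_⟩
  rw [← Scheme.Hom.comp_apply, Sigma.ι_desc_assoc]
  exact hy

/-- the case of an affine base. -/
theorem exists_effective_affine_base (p : X ⟶ S) [IsAffine S] [Flat p] [Surjective p]
    [LocallyOfFinitePresentation p] (D : Desc.SchDD p) [IsSeparated D.obj.hom]
    [LocallyQuasiFinite D.obj.hom] [LocallyOfFiniteType D.obj.hom] :
    ∃ U : Over S, Nonempty ((Desc.toDD p).obj U ≅ D) := by
  obtain ⟨X', c, hX', hc1, hc2, hc3⟩ := exists_affine_fppf_refinement p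
  haveI : QuasiCompact (c ≫ p) := inferInstance
  have hcov : Presieve.singleton (c ≫ p) ∈ Scheme.fpqcPrecoverage S :=
    Scheme.Hom.singleton_mem_fpqcPrecoverage (c ≫ p)
  haveI : IsSeparated (pullDD p c D).obj.hom :=
    inferInstanceAs (IsSeparated (pullback.snd D.obj.hom c))
  haveI : LocallyQuasiFinite (pullDD p c D).obj.hom :=
    inferInstanceAs (LocallyQuasiFinite (pullback.snd D.obj.hom c))
  haveI : LocallyOfFiniteType (pullDD p c D).obj.hom :=
    inferInstanceAs (LocallyOfFiniteType (pullback.snd D.obj.hom c))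
  obtain ⟨M, ⟨e'⟩⟩ := exists_effective_affine_affine (c ≫ p) (pullDD p c D)
  exact ⟨M, nonempty_iso_of_pullDD p c hcov D M e'⟩

end Groth.Agent.H40.DGU
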