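import Groth.Agent.H40.DGU.OpenSub
import Mathlib.AlgebraicGeometry.Gluing
import Mathlib.AlgebraicGeometry.Cover.Directed

/-!
# Charts: stable opens on which the descent datum is effective
-/

set_option autoImplicit false
set_option backward.isDefEq.respectTransparency.types false
universe u

open CategoryTheory CategoryTheory.Limits AlgebraicGeometry

namespace Groth.Agent.H40.DGU

open Desc Groth.Agent.H40.DQ Groth.Agent.H40.DG

variable {X S : Scheme.{u}} {p : X ⟶ S}

/-- invariance of a quotient map after composition with a morphism of descent data. -/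
theorem IsQuot.comp_inv {D₁ D₂ : Desc.SchDD p} (b : D₁ ⟶ D₂) {M : Scheme.{u}} {q : M ⟶ S}
    {m : D₂.obj.left ⟶ M} (hq : IsQuot D₂ q m) :
    tmor D₁ ≫ b.hom.left ≫ m = pullback.fst (D₁.obj.hom ≫ p) p ≫ b.hom.left ≫ m := by
  have h' : ((pullback.fst (D₁.obj.hom ≫ p) p ≫ b.hom.left) ≫ D₂.obj.hom) ≫ p =
      pullback.snd (D₁.obj.hom ≫ p) p ≫ p := by
    rw [Category.assoc (pullback.fst (D₁.obj.hom ≫ p) p), Over.w b.hom]
    exact tmor_aux D₁
  unfold tmor
  rw [← Category.assoc, hom_tr b _ _ (tmor_aux D₁) h', hq.inv, Category.assoc]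

/-- orbits map to orbits. -/
theorem Orb.map {D₁ D₂ : Desc.SchDD p} (b : D₁ ⟶ D₂) {v w : D₁.obj.left} (h : Orb D₁ v w) :
    Orb D₂ (b.hom.left v) (b.hom.left w) := by
  obtain ⟨r, rfl, rfl⟩ := h
  have h' : ((pullback.fst (D₁.obj.hom ≫ p) p ≫ b.hom.left) ≫ D₂.obj.hom) ≫ p =
      pullback.snd (D₁.obj.hom ≫ p) p ≫ p := by
    rw [Category.assoc (pullback.fst (D₁.obj.hom ≫ p) p), Over.w b.hom]
    exact tmor_aux D₁
  have key := tr_apply (D := D₂) (pullback.fst (D₁.obj.hom ≫ p) p ≫ b.hom.left)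
    (pullback.snd (D₁.obj.hom ≫ p) p) h' r
  rw [← hom_tr b _ _ (tmor_aux D₁) h'] at key
  exact key

/-- orbits can be detected after an injective morphism of descent data. -/
theorem Orb.of_map {D₁ D₂ : Desc.SchDD p} (b : D₁ ⟶ D₂) (hb : Function.Injective b.hom.left)
    {v w : D₁.obj.left} (h : Orb D₂ (b.hom.left v) (b.hom.left w)) : Orb D₁ v w := by
  obtain ⟨r, hr1, hr2⟩ := h
  obtain ⟨z, hz1, hz2⟩ := Scheme.Pullback.exists_preimage_pullback
    (f := b.hom.left) (g := pullback.fst (D₂.obj.hom ≫ p) p) v r hr1.symm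
  let vT := pullback.fst b.hom.left (pullback.fst (D₂.obj.hom ≫ p) p)
  let rT := pullback.snd b.hom.left (pullback.fst (D₂.obj.hom ≫ p) p)
  have hc : vT ≫ b.hom.left = rT ≫ pullback.fst (D₂.obj.hom ≫ p) p := pullback.condition
  have h' : ((vT ≫ b.hom.left) ≫ D₂.obj.hom) ≫ p =
      (rT ≫ pullback.snd (D₂.obj.hom ≫ p) p) ≫ p := by
    rw [hc]
    simp only [Category.assoc]
    rw [pullback.condition]
  have e : (vT ≫ b.hom.left) ≫ D₂.obj.hom = vT ≫ D₁.obj.hom := by
    rw [Category.assoc, Over.w b.hom]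
  have h0 : (vT ≫ D₁.obj.hom) ≫ p = (rT ≫ pullback.snd (D₂.obj.hom ≫ p) p) ≫ p := by
    rw [← e]
    exact h'
  have key : rT ≫ tmor D₂ =
      tr D₁ vT (rT ≫ pullback.snd (D₂.obj.hom ≫ p) p) h0 ≫ b.hom.left := by
    rw [hom_tr b vT _ h0 h', comp_tmor]
    exact tr_congr D₂ hc.symm rfl _ _
  have ho := tr_apply (D := D₁) vT (rT ≫ pullback.snd (D₂.obj.hom ≫ p) p) h0 z
  have e2 : tr D₁ vT (rT ≫ pullback.snd (D₂.obj.hom ≫ p) p) h0 z = w := by
    apply hb
    rw [← Scheme.Hom.comp_apply, ← key, Scheme.Hom.comp_apply]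
    change tmor D₂ (rT z) = _
    rw [hz2, hr2]
  rw [e2] at ho
  change Orb D₁ (vT z) w at ho
  rw [hz1] at ho
  exact ho

variable (D : Desc.SchDD p)

/-- a stable open on which the descent datum is effective. -/
def IsChart (W : D.obj.left.Opens) : Prop :=
  ∃ hW : IsStable D (W : Set D.obj.left), ∃ (M : Scheme.{u}) (q : M ⟶ S) (m : W.toScheme ⟶ M),
    IsQuot (subDD D W.ι (stableMono_of_isStable W hW)) q m

/-- the index type of charts. -/
def J : Type u := {W : D.obj.left.Opens // IsChart D W}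

instance : PartialOrder (J D) := inferInstanceAs (PartialOrder {W : D.obj.left.Opens // IsChart D W})

variable {D}

theorem J.stable (W : J D) : IsStable D (W.1 : Set D.obj.left) := W.2.choose

/-- the restricted descent datum. -/
noncomputable def rD (W : J D) : Desc.SchDD p :=
  subDD D W.1.ι (stableMono_of_isStable W.1 W.stable)

/-- the inclusion of the restricted descent datum. -/
noncomputable def rι (W : J D) : rD W ⟶ D := subι D W.1.ι (stableMono_of_isStable W.1 W.stable)

/-- the chart. -/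
noncomputable def chartM (W : J D) : Scheme.{u} := W.2.choose_spec.choose

/-- the structure morphism of the chart. -/
noncomputable def chartQ (W : J D) : chartM W ⟶ S := W.2.choose_spec.choose_spec.choose

/-- the quotient morphism of the chart. -/
noncomputable def chartP (W : J D) : W.1.toScheme ⟶ chartM W :=
  W.2.choose_spec.choose_spec.choose_spec.choose

theorem chart_isQuot (W : J D) : IsQuot (rD W) (chartQ W) (chartP W) :=
  W.2.choose_spec.choose_spec.choose_spec.choose_spec

instance (W : J D) : IsOpenImmersion (rι W).hom.left := inferInstanceAs (IsOpenImmersion W.1.ι)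

@[simp] theorem rι_left (W : J D) : (rι W).hom.left = W.1.ι := rfl

/-- the inclusion of restricted descent data. -/
noncomputable def rLE {W W' : J D} (h : W ≤ W') : rD W ⟶ rD W' :=
  liftHom (rι W) (rι W') (D.obj.left.homOfLE h) (D.obj.left.homOfLE_ι h)

theorem rLE_left {W W' : J D} (h : W ≤ W') : (rLE h).hom.left = D.obj.left.homOfLE h :=
  liftHom_left _ _ _ _

instance {W W' : J D} (h : W ≤ W') : IsOpenImmersion (rLE h).hom.left := by
  rw [rLE_left]
  exact inferInstanceAs (IsOpenImmersion (D.obj.left.homOfLE (show W.1 ≤ W'.1 from h)))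

theorem chart_w (W : J D) : (W.1.ι ≫ D.obj.hom) ≫ p = chartP W ≫ chartQ W := (chart_isQuot W).w

theorem chart_inv (W : J D) {T : Scheme.{u}} (v : T ⟶ W.1.toScheme) (x₁ : T ⟶ X)
    (h : ((v ≫ W.1.ι) ≫ D.obj.hom) ≫ p = x₁ ≫ p) :
    ∃ v' : T ⟶ W.1.toScheme, v' ≫ W.1.ι = tr D (v ≫ W.1.ι) x₁ h ∧ v' ≫ chartP W = v ≫ chartP W := by
  have h0 : (v ≫ (rD W).obj.hom) ≫ p = x₁ ≫ p := by
    change (v ≫ W.1.ι ≫ D.obj.hom) ≫ p = x₁ ≫ p
    rw [← Category.assoc]
    exact h
  exact ⟨tr (rD W) v x₁ h0, tr_sub _ v x₁ h0 h, (chart_isQuot W).inv v x₁ h0⟩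

variable [UCov p]

theorem chart_hom_ext (W : J D) {N : Scheme.{u}} {f g : chartM W ⟶ N}
    (h : chartP W ≫ f = chartP W ≫ g) : f = g := (chart_isQuot W).hom_ext h

instance (W : J D) : Surjective (chartP W) := ⟨(chart_isQuot W).surjective⟩

/-- the transition morphism between charts. -/
noncomputable def chartT {W W' : J D} (h : W ≤ W') : chartM W ⟶ chartM W' :=
  (chart_isQuot W).desc ((rLE h).hom.left ≫ chartP W') ((chart_isQuot W').comp_inv (rLE h))

@[reassoc]
theorem chartP_chartT {W W' : J D} (h : W ≤ W') :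
    chartP W ≫ chartT h = D.obj.left.homOfLE h ≫ chartP W' := by
  have := (chart_isQuot W).fac ((rLE h).hom.left ≫ chartP W')
    ((chart_isQuot W').comp_inv (rLE h))
  refine this.trans ?_
  rw [rLE_left]
  rfl

theorem chartT_refl (W : J D) : chartT (le_refl W) = 𝟙 (chartM W) := by
  apply chart_hom_ext W
  rw [chartP_chartT, Category.comp_id, D.obj.left.homOfLE_rfl, Category.id_comp]

theorem chartT_trans {W W' W'' : J D} (h : W ≤ W') (h' : W' ≤ W'') :
    chartT (h.trans h') = chartT h ≫ chartT h' := by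
  apply chart_hom_ext W
  rw [chartP_chartT, chartP_chartT_assoc, chartP_chartT, ← Category.assoc,
    D.obj.left.homOfLE_homOfLE]

@[reassoc (attr := simp)]
theorem chartT_chartQ {W W' : J D} (h : W ≤ W') : chartT h ≫ chartQ W' = chartQ W := by
  apply chart_hom_ext W
  rw [chartP_chartT_assoc, ← chart_w W, ← chart_w W', ← Category.assoc, ← Category.assoc,
    D.obj.left.homOfLE_ι]

end Groth.Agent.H40.DGU
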