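import Groth.Agent.H40.DGU.GlueMap
import Mathlib.AlgebraicGeometry.Morphisms.IsIso

/-!
# A descent datum covered by effective stable opens is effective
-/

set_option autoImplicit false
set_option backward.isDefEq.respectTransparency.types false
universe u

open CategoryTheory CategoryTheory.Limits AlgebraicGeometry

namespace Groth.Agent.H40.DGU

open Desc Groth.Agent.H40.DQ Groth.Agent.H40.DG

variable {X S : Scheme.{u}} {p : X ⟶ S} {D : Desc.SchDD p}
variable [UCov p] (hcov : Covers D)

/-- the comparison morphism `V ⟶ X ×_S M` for the glued quotient. -/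
noncomputable def quotθ : D.obj.left ⟶ pullback p (quotQ D) :=
  pullback.lift D.obj.hom (quotP hcov) (quotP_w hcov)

@[reassoc (attr := simp)]
theorem quotθ_fst : quotθ hcov ≫ pullback.fst p (quotQ D) = D.obj.hom := pullback.lift_fst _ _ _

@[reassoc (attr := simp)]
theorem quotθ_snd : quotθ hcov ≫ pullback.snd p (quotQ D) = quotP hcov := pullback.lift_snd _ _ _

/-- the comparison isomorphism of a chart. -/
noncomputable def chartθ (W : J D) : W.1.toScheme ⟶ pullback p (chartQ W) := (chart_isQuot W).θ

omit [UCov p] in
@[reassoc (attr := simp)]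
theorem chartθ_fst (W : J D) : chartθ W ≫ pullback.fst p (chartQ W) = W.1.ι ≫ D.obj.hom :=
  (chart_isQuot W).θ_fst

omit [UCov p] in
@[reassoc (attr := simp)]
theorem chartθ_snd (W : J D) : chartθ W ≫ pullback.snd p (chartQ W) = chartP W :=
  (chart_isQuot W).θ_snd

omit [UCov p] in
instance (W : J D) : IsIso (chartθ W) := inferInstanceAs (IsIso (chart_isQuot W).θ)

/-- the piece of `X ×_S M` over a chart. -/
noncomputable abbrev PW (W : J D) : Scheme.{u} :=
  pullback (pullback.snd p (quotQ D)) (chartι D W)

/-- the comparison morphism restricted to a chart. -/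
noncomputable def cW (W : J D) : W.1.toScheme ⟶ PW W :=
  pullback.lift (W.1.ι ≫ quotθ hcov) (chartP W) (by
    rw [Category.assoc, quotθ_snd, ι_quotP])

@[reassoc (attr := simp)]
theorem cW_fst (W : J D) : cW hcov W ≫ pullback.fst (pullback.snd p (quotQ D)) (chartι D W) =
    W.1.ι ≫ quotθ hcov := pullback.lift_fst _ _ _

@[reassoc (attr := simp)]
theorem cW_snd (W : J D) : cW hcov W ≫ pullback.snd (pullback.snd p (quotQ D)) (chartι D W) =
    chartP W := pullback.lift_snd _ _ _

/-- the identification of the piece over a chart with `X ×_S M_W`. -/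
noncomputable def κW (W : J D) : PW W ⟶ pullback p (chartQ W) :=
  pullback.lift (pullback.fst (pullback.snd p (quotQ D)) (chartι D W) ≫ pullback.fst p (quotQ D))
    (pullback.snd (pullback.snd p (quotQ D)) (chartι D W)) (by
      rw [Category.assoc, pullback.condition, pullback.condition_assoc, chartι_quotQ])

@[reassoc (attr := simp)]
theorem κW_fst (W : J D) : κW W ≫ pullback.fst p (chartQ W) =
    pullback.fst (pullback.snd p (quotQ D)) (chartι D W) ≫ pullback.fst p (quotQ D) :=
  pullback.lift_fst _ _ _

@[reassoc (attr := simp)]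
theorem κW_snd (W : J D) : κW W ≫ pullback.snd p (chartQ W) =
    pullback.snd (pullback.snd p (quotQ D)) (chartι D W) := pullback.lift_snd _ _ _

instance (W : J D) : Mono (κW W) := by
  constructor
  intro T a b hab
  have h1 : a ≫ pullback.snd (pullback.snd p (quotQ D)) (chartι D W) =
      b ≫ pullback.snd (pullback.snd p (quotQ D)) (chartι D W) := by
    have := congrArg (· ≫ pullback.snd p (chartQ W)) hab
    simpa only [Category.assoc, κW_snd] using this
  have h2 : a ≫ pullback.fst (pullback.snd p (quotQ D)) (chartι D W) ≫ pullback.fst p (quotQ D) =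
      b ≫ pullback.fst (pullback.snd p (quotQ D)) (chartι D W) ≫ pullback.fst p (quotQ D) := by
    have := congrArg (· ≫ pullback.fst p (chartQ W)) hab
    simpa only [Category.assoc, κW_fst] using this
  apply pullback.hom_ext
  · apply pullback.hom_ext
    · simpa only [Category.assoc] using h2
    · rw [Category.assoc, Category.assoc, pullback.condition, reassoc_of% h1]
  · exact h1

theorem cW_κW (W : J D) : cW hcov W ≫ κW W = chartθ W := by
  apply pullback.hom_ext
  · rw [Category.assoc, κW_fst, cW_fst_assoc, quotθ_fst, chartθ_fst]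
  · rw [Category.assoc, κW_snd, cW_snd, chartθ_snd]

instance isIso_cW (W : J D) : IsIso (cW hcov W) := by
  refine ⟨κW W ≫ inv (chartθ W), ?_, ?_⟩
  · rw [← Category.assoc, cW_κW, IsIso.hom_inv_id]
  · rw [← cancel_mono (κW W), Category.assoc, Category.assoc, cW_κW, IsIso.inv_hom_id,
      Category.comp_id, Category.id_comp]

theorem isPullback_cW (W : J D) :
    IsPullback (cW hcov W) W.1.ι (pullback.fst (pullback.snd p (quotQ D)) (chartι D W))
      (quotθ hcov) := by
  have s : IsPullback (cW hcov W ≫ pullback.snd (pullback.snd p (quotQ D)) (chartι D W)) W.1.ι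
      (chartι D W) (quotθ hcov ≫ pullback.snd p (quotQ D)) := by
    rw [cW_snd, quotθ_snd]
    exact isPullback_chart hcov W
  exact IsPullback.of_right s (cW_fst hcov W)
    (IsPullback.of_hasPullback (pullback.snd p (quotQ D)) (chartι D W)).flip

instance isIso_quotθ : IsIso (quotθ hcov) := by
  change MorphismProperty.isomorphisms Scheme.{u} (quotθ hcov)
  apply IsZariskiLocalAtTarget.of_openCover
    ((Scheme.IsLocallyDirected.openCover (chartF D)).pullback₁ (pullback.snd p (quotQ D)))
  intro W
  change MorphismProperty.isomorphisms Scheme.{u}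
    (pullback.snd (quotθ hcov) (pullback.fst (pullback.snd p (quotQ D)) (chartι D W)))
  have hpb := (isPullback_cW hcov W).flip
  have h1 : hpb.isoPullback.hom ≫
      pullback.snd (quotθ hcov) (pullback.fst (pullback.snd p (quotQ D)) (chartι D W)) =
      cW hcov W := hpb.isoPullback_hom_snd
  have h2 : MorphismProperty.isomorphisms Scheme.{u} (hpb.isoPullback.hom ≫
      pullback.snd (quotθ hcov) (pullback.fst (pullback.snd p (quotQ D)) (chartι D W))) := by
    rw [h1]
    exact isIso_cW hcov W
  exact ((MorphismProperty.isomorphisms Scheme.{u}).cancel_left_of_respectsIso _ _).mp h2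

/-- the glued quotient is a quotient of `D`. -/
theorem isQuot_quotP : IsQuot D (quotQ D) (quotP hcov) :=
  ⟨quotP_w hcov, fun _ v x₁ h => quotP_inv hcov v x₁ h, isIso_quotθ hcov⟩

include hcov in
/-- a descent datum covered by charts is effective. -/
theorem exists_effective_of_covers : ∃ U : Over S, Nonempty ((Desc.toDD p).obj U ≅ D) :=
  ⟨Over.mk (quotQ D), (isQuot_quotP hcov).nonempty_iso⟩

omit hcov in
/-- the range of an open immersion of descent data with effective source is a chart. -/
theorem isChart_range {D' : Desc.SchDD p} (j : D' ⟶ D) [IsOpenImmersion j.hom.left]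
    (U' : Over S) (e : (Desc.toDD p).obj U' ≅ D') : IsChart D j.hom.left.opensRange := by
  have hst : IsStable D (j.hom.left.opensRange : Set D.obj.left) := isStable_range j
  refine ⟨hst, ?_⟩
  let f : j.hom.left.opensRange.toScheme ⟶ D'.obj.left :=
    IsOpenImmersion.lift j.hom.left j.hom.left.opensRange.ι (by
      rw [Scheme.Opens.range_ι]
      rfl)
  have hf : f ≫ j.hom.left = j.hom.left.opensRange.ι := IsOpenImmersion.lift_fac _ _ _
  have hfo : IsOpenImmersion f := by
    have : IsOpenImmersion (f ≫ j.hom.left) := by
      rw [hf]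
      infer_instance
    exact IsOpenImmersion.of_comp f j.hom.left
  let k : subDD D j.hom.left.opensRange.ι (stableMono_of_isStable _ hst) ⟶ D' :=
    liftHom (subι D j.hom.left.opensRange.ι (stableMono_of_isStable _ hst)) j f hf
  haveI : IsOpenImmersion k.hom.left := by
    have h1 : k.hom.left = f := liftHom_left _ _ _ _
    rw [h1]
    exact hfo
  exact ⟨_, _, _, isQuot_subM k (isQuot_of_iso U' e)⟩

omit hcov in
/-- a descent datum covered by effective open sub-descent data is effective. -/
theorem exists_effective_of_locally_effective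
    (h : ∀ v : D.obj.left, ∃ (D' : Desc.SchDD p) (j : D' ⟶ D), IsOpenImmersion j.hom.left ∧
      v ∈ Set.range j.hom.left ∧ ∃ U' : Over S, Nonempty ((Desc.toDD p).obj U' ≅ D')) :
    ∃ U : Over S, Nonempty ((Desc.toDD p).obj U ≅ D) := by
  apply exists_effective_of_covers
  intro v
  obtain ⟨D', j, hj, hv, U', ⟨e⟩⟩ := h v
  exact ⟨⟨j.hom.left.opensRange, isChart_range j U' e⟩, hv⟩

end Groth.Agent.H40.DGU
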