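import Groth.Agent.H40.DGU.Quot

/-!
# An open sub-descent datum of an effective descent datum is effective
-/

set_option autoImplicit false
set_option backward.isDefEq.respectTransparency.types false
universe u

open CategoryTheory CategoryTheory.Limits AlgebraicGeometry

namespace Groth.Agent.H40.DGU

open Desc Groth.Agent.H40.DQ Groth.Agent.H40.DG

variable {X S : Scheme.{u}} {p : X ⟶ S}

/-- base change of `g : Z ⟶ M` to `X ×_S -`. -/
theorem isPullback_map_snd {M Z : Scheme.{u}} (q : M ⟶ S) (g : Z ⟶ M) :
    IsPullback (pullback.map p (g ≫ q) p q (𝟙 X) g (𝟙 S) (by simp) (by simp))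
      (pullback.snd p (g ≫ q)) (pullback.snd p q) g := by
  have e : pullback.map p (g ≫ q) p q (𝟙 X) g (𝟙 S) (by simp) (by simp) ≫ pullback.fst p q =
      pullback.fst p (g ≫ q) := by rw [pullback.lift_fst, Category.comp_id]
  have s : IsPullback (pullback.map p (g ≫ q) p q (𝟙 X) g (𝟙 S) (by simp) (by simp) ≫
      pullback.fst p q) (pullback.snd p (g ≫ q)) p (g ≫ q) := by
    rw [e]
    exact IsPullback.of_hasPullback p (g ≫ q)
  exact IsPullback.of_right s (by rw [pullback.lift_snd]) (IsPullback.of_hasPullback p q)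

variable [UCov p]
variable {D₁ D₂ : Desc.SchDD p} (b : D₁ ⟶ D₂) [IsOpenImmersion b.hom.left]
  {M : Scheme.{u}} {q : M ⟶ S} {m : D₂.obj.left ⟶ M} (hq : IsQuot D₂ q m)

include hq in
theorem preimage_image_range : m ⁻¹' (m '' Set.range b.hom.left) = Set.range b.hom.left := by
  apply Set.Subset.antisymm
  · rintro v ⟨w, hw, hvw⟩
    exact ((isStable_range b).mem_iff (hq.orb_of_apply_eq hvw)).mp hw
  · exact Set.subset_preimage_image _ _

include hq in
theorem isOpen_image_range : IsOpen (m '' Set.range b.hom.left) := by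
  rw [← hq.isQuotientMap.isOpen_preimage, preimage_image_range b hq]
  exact b.hom.left.isOpenEmbedding.isOpen_range

/-- the open image of an open sub-descent datum in the quotient. -/
def openImage : M.Opens := ⟨m '' Set.range b.hom.left, isOpen_image_range b hq⟩

theorem preimage_openImage : m ⁻¹ᵁ openImage b hq = b.hom.left.opensRange := by
  ext1
  exact preimage_image_range b hq

/-- the restricted quotient map. -/
noncomputable def subM : D₁.obj.left ⟶ (openImage b hq).toScheme :=
  IsOpenImmersion.lift (openImage b hq).ι (b.hom.left ≫ m) (by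
    rw [Scheme.Opens.range_ι]
    rintro _ ⟨v, rfl⟩
    rw [Scheme.Hom.comp_apply]
    exact ⟨b.hom.left v, ⟨v, rfl⟩, rfl⟩)

@[reassoc (attr := simp)]
theorem subM_ι : subM b hq ≫ (openImage b hq).ι = b.hom.left ≫ m :=
  IsOpenImmersion.lift_fac _ _ _

theorem isPullback_subM : IsPullback (subM b hq) b.hom.left (openImage b hq).ι m :=
  IsOpenImmersion.isPullback _ _ _ _ (subM_ι b hq).symm (by
    rw [Scheme.Opens.opensRange_ι, preimage_openImage])

theorem isQuot_subM : IsQuot D₁ ((openImage b hq).ι ≫ q) (subM b hq) := by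
  have hw : D₁.obj.hom ≫ p = subM b hq ≫ (openImage b hq).ι ≫ q := by
    rw [subM_ι_assoc, ← hq.w, ← Category.assoc, Over.w b.hom]
  refine ⟨hw, ?_, ?_⟩
  · intro T v x₁ h
    have h' : ((v ≫ b.hom.left) ≫ D₂.obj.hom) ≫ p = x₁ ≫ p := by
      rw [Category.assoc v, Over.w b.hom]
      exact h
    rw [← cancel_mono (openImage b hq).ι, Category.assoc, subM_ι, Category.assoc, subM_ι,
      ← Category.assoc, hom_tr b v x₁ h h', hq.inv, Category.assoc]
  · let θ₁ := pullback.lift D₁.obj.hom (subM b hq) hw
    have h1 : θ₁ ≫ pullback.snd p ((openImage b hq).ι ≫ q) = subM b hq := pullback.lift_snd _ _ _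
    have h2 : hq.θ ≫ pullback.snd p q = m := hq.θ_snd
    have s : IsPullback (θ₁ ≫ pullback.snd p ((openImage b hq).ι ≫ q)) b.hom.left
        (openImage b hq).ι (hq.θ ≫ pullback.snd p q) := by
      rw [h1, h2]
      exact isPullback_subM b hq
    have hp : θ₁ ≫ pullback.map p ((openImage b hq).ι ≫ q) p q (𝟙 X) (openImage b hq).ι (𝟙 S)
        (by simp) (by simp) = b.hom.left ≫ hq.θ := by
      apply pullback.hom_ext
      · rw [Category.assoc, pullback.lift_fst, Category.comp_id, Category.assoc, IsQuot.θ_fst,
          Over.w b.hom]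
        exact pullback.lift_fst _ _ _
      · rw [Category.assoc, pullback.lift_snd, Category.assoc, IsQuot.θ_snd, ← subM_ι b hq,
          ← Category.assoc]
        congr 1
    have sqL := IsPullback.of_right s hp (isPullback_map_snd (p := p) q (openImage b hq).ι).flip
    exact (MorphismProperty.isomorphisms Scheme.{u}).of_isPullback sqL.flip
      (inferInstanceAs (IsIso hq.θ))

end Groth.Agent.H40.DGU
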