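import Groth.Agent.H40.DG.Sub
import Mathlib.AlgebraicGeometry.Morphisms.UniversallyOpen
import Mathlib.AlgebraicGeometry.Morphisms.QuasiCompact

/-!
# Saturation of a subset of `V` under the relation of a descent datum
-/

set_option autoImplicit false
set_option backward.isDefEq.respectTransparency.types false
universe u

open CategoryTheory CategoryTheory.Limits AlgebraicGeometry

namespace Groth.Agent.H40.DGU

open Desc Groth.Agent.H40.DQ Groth.Agent.H40.DG

variable {X S : Scheme.{u}} {p : X ⟶ S} {D : Desc.SchDD p}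

theorem Orb.refl (v : D.obj.left) : Orb D v v := by
  have h := tr_apply (D := D) (𝟙 D.obj.left) D.obj.hom (by rw [Category.id_comp]) v
  have e : tr D (𝟙 D.obj.left) D.obj.hom (by rw [Category.id_comp]) = 𝟙 D.obj.left :=
    tr_self' D _ _ (Category.id_comp _).symm _
  rw [e] at h
  exact h

theorem Orb.trans {v w z : D.obj.left} (h₁ : Orb D v w) (h₂ : Orb D w z) : Orb D v z := by
  obtain ⟨r, rfl, rfl⟩ := h₁
  obtain ⟨r', hr', rfl⟩ := h₂
  obtain ⟨y, hy1, hy2⟩ := Scheme.Pullback.exists_preimage_pullback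
    (f := tmor D) (g := pullback.fst (D.obj.hom ≫ p) p) r r' hr'.symm
  let a := pullback.fst (tmor D) (pullback.fst (D.obj.hom ≫ p) p)
  let b := pullback.snd (tmor D) (pullback.fst (D.obj.hom ≫ p) p)
  have hab : a ≫ tmor D = b ≫ pullback.fst (D.obj.hom ≫ p) p := pullback.condition
  have h1 : ((a ≫ pullback.fst (D.obj.hom ≫ p) p) ≫ D.obj.hom) ≫ p =
      (a ≫ pullback.snd (D.obj.hom ≫ p) p) ≫ p := by
    simp only [Category.assoc]
    rw [pullback.condition]
  have h2 : ((a ≫ pullback.fst (D.obj.hom ≫ p) p) ≫ D.obj.hom) ≫ p =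
      (b ≫ pullback.snd (D.obj.hom ≫ p) p) ≫ p := by
    rw [h1]
    have e : a ≫ pullback.snd (D.obj.hom ≫ p) p =
        b ≫ pullback.fst (D.obj.hom ≫ p) p ≫ D.obj.hom := by
      rw [← tmor_hom D, ← Category.assoc, hab, Category.assoc]
    rw [e]
    simp only [Category.assoc]
    rw [pullback.condition]
  let c : pullback (tmor D) (pullback.fst (D.obj.hom ≫ p) p) ⟶ RL D :=
    pullback.lift (a ≫ pullback.fst (D.obj.hom ≫ p) p) (b ≫ pullback.snd (D.obj.hom ≫ p) p)
      (by rw [← Category.assoc]; exact h2)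
  have hc1 : c ≫ pullback.fst (D.obj.hom ≫ p) p = a ≫ pullback.fst (D.obj.hom ≫ p) p :=
    pullback.lift_fst _ _ _
  have hc2 : c ≫ tmor D = b ≫ tmor D := by
    have e1 : c ≫ tmor D = tr D (a ≫ pullback.fst (D.obj.hom ≫ p) p)
        (b ≫ pullback.snd (D.obj.hom ≫ p) p) h2 := lift_tmor D _ _ h2
    have e2 : a ≫ tmor D = tr D (a ≫ pullback.fst (D.obj.hom ≫ p) p)
        (a ≫ pullback.snd (D.obj.hom ≫ p) p) h1 := by
      rw [comp_tmor]
    have h3 : (tr D (a ≫ pullback.fst (D.obj.hom ≫ p) p)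
        (a ≫ pullback.snd (D.obj.hom ≫ p) p) h1 ≫ D.obj.hom) ≫ p =
        (b ≫ pullback.snd (D.obj.hom ≫ p) p) ≫ p := by
      rw [tr_hom, ← h1, h2]
    have e3 := tr_tr D (a ≫ pullback.fst (D.obj.hom ≫ p) p)
      (a ≫ pullback.snd (D.obj.hom ≫ p) p) (b ≫ pullback.snd (D.obj.hom ≫ p) p) h1 h3
    rw [e1, ← e3, comp_tmor]
    exact tr_congr D (e2.symm.trans hab) rfl _ _
  refine ⟨c y, ?_, ?_⟩
  · rw [← Scheme.Hom.comp_apply, hc1, Scheme.Hom.comp_apply]
    exact congrArg _ hy1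
  · rw [← Scheme.Hom.comp_apply, hc2, Scheme.Hom.comp_apply]
    exact congrArg _ hy2

variable (D) in
/-- the saturation of a subset of `V`. -/
def sat (A : Set D.obj.left) : Set D.obj.left :=
  tmor D '' (pullback.fst (D.obj.hom ≫ p) p ⁻¹' A)

theorem mem_sat {A : Set D.obj.left} {w : D.obj.left} : w ∈ sat D A ↔ ∃ v ∈ A, Orb D v w := by
  constructor
  · rintro ⟨r, hr, rfl⟩
    exact ⟨_, hr, r, rfl, rfl⟩
  · rintro ⟨v, hv, r, rfl, rfl⟩
    exact ⟨r, hv, rfl⟩

theorem subset_sat (A : Set D.obj.left) : A ⊆ sat D A :=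
  fun v hv => mem_sat.mpr ⟨v, hv, Orb.refl v⟩

theorem isStable_sat (A : Set D.obj.left) : IsStable D (sat D A) := by
  intro r hr
  obtain ⟨v, hv, hvw⟩ := mem_sat.mp hr
  exact mem_sat.mpr ⟨v, hv, Orb.trans hvw ⟨r, rfl, rfl⟩⟩

theorem tmor_eq : tmor D = invR D ≫ pullback.fst (D.obj.hom ≫ p) p := (invR_fst D).symm

theorem invR_invR : invR D ≫ invR D = 𝟙 _ := by
  apply pullback.hom_ext
  · rw [Category.assoc, invR_fst, invR_tmor, Category.id_comp]
  · rw [Category.assoc, invR_snd, invR_fst_assoc, tmor_hom, Category.id_comp]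

instance : IsIso (invR D) := ⟨invR D, invR_invR, invR_invR⟩

theorem isOpen_sat [UniversallyOpen p] {A : Set D.obj.left} (hA : IsOpen A) :
    IsOpen (sat D A) := by
  have h1 : IsOpenMap (tmor D) := by
    rw [tmor_eq]
    exact (invR D ≫ pullback.fst (D.obj.hom ≫ p) p).isOpenMap
  exact h1 _ (hA.preimage (pullback.fst (D.obj.hom ≫ p) p).continuous)

theorem isCompact_sat [QuasiCompact p] {A : Set D.obj.left} (hA : IsOpen A)
    (hA' : IsCompact A) : IsCompact (sat D A) := by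
  have h1 : IsCompact (pullback.fst (D.obj.hom ≫ p) p ⁻¹' A) :=
    QuasiCompact.isCompact_preimage (f := pullback.fst (D.obj.hom ≫ p) p) _ hA hA'
  exact h1.image (tmor D).continuous

end Groth.Agent.H40.DGU
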