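import Groth.Agent.H40.DGU.Sat
import Groth.Agent.H40.DG.QAffineHom
import Mathlib.AlgebraicGeometry.ZariskisMainTheorem
import Mathlib.AlgebraicGeometry.Morphisms.QuasiFinite

/-!
# Separated locally quasi-finite descent data along an fppf cover of affine schemes are effective
-/

set_option autoImplicit false
set_option backward.isDefEq.respectTransparency.types false
universe u

open CategoryTheory CategoryTheory.Limits AlgebraicGeometry

namespace Groth.Agent.H40.DGU

open Desc Groth.Agent.H40.DQ Groth.Agent.H40.DG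

/-- Zariski's main theorem: a quasi-compact separated locally quasi-finite morphism is
quasi-affine. -/
theorem P_of_sep_lqf {V X : Scheme.{u}} (f : V ⟶ X) [QuasiCompact f] [IsSeparated f]
    [LocallyOfFiniteType f] [LocallyQuasiFinite f] : Groth.Agent.H6.QuasiAffineHom.P f := by
  rw [Groth.Agent.H6.QuasiAffineHom.P_iff]
  refine ⟨inferInstance, fun W hW => ?_⟩
  haveI hWaff : IsAffine (W : Scheme.{u}) := hW
  let h : (f ⁻¹ᵁ W : Scheme.{u}) ⟶ (W : Scheme.{u}) := f ∣_ W
  haveI : CompactSpace (f ⁻¹ᵁ W : Scheme.{u}) :=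
    (quasiCompact_iff_compactSpace h).mp inferInstance
  haveI : IsSeparated h := inferInstance
  haveI : LocallyOfFiniteType h := inferInstance
  haveI : LocallyQuasiFinite h := inferInstance
  haveI : QuasiCompact h := inferInstance
  haveI : IsOpenImmersion h.toNormalization := inferInstance
  haveI : IsAffineHom h.fromNormalization := inferInstance
  haveI : IsAffine h.normalization := isAffine_of_isAffineHom h.fromNormalization
  exact Scheme.IsQuasiAffine.of_isImmersion h.toNormalization

variable {X S : Scheme.{u}}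

theorem exists_effective_affine_affine (p : X ⟶ S) [IsAffine X] [IsAffine S] [Flat p]
    [Surjective p] [LocallyOfFinitePresentation p] (D : Desc.SchDD p) [IsSeparated D.obj.hom]
    [LocallyQuasiFinite D.obj.hom] [LocallyOfFiniteType D.obj.hom] :
    ∃ U : Over S, Nonempty ((Desc.toDD p).obj U ≅ D) := by
  haveI : QuasiCompact p := inferInstance
  apply DG.exists_effective_of_covers
  intro v
  obtain ⟨_, ⟨A, hA, rfl⟩, hvA, -⟩ :=
    D.obj.left.isBasis_affineOpens.exists_subset_of_mem_open (Set.mem_univ v) isOpen_univ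
  let W : D.obj.left.Opens := ⟨sat D (A : Set D.obj.left), isOpen_sat A.2⟩
  have hst : IsStable D (W : Set D.obj.left) := isStable_sat _
  have hc : IsCompact (W : Set D.obj.left) := isCompact_sat A.2 hA.isCompact
  refine ⟨⟨W, hst, ?_⟩, subset_sat _ hvA⟩
  haveI : CompactSpace W.toScheme := isCompact_iff_compactSpace.mp hc
  haveI : QuasiCompact (W.ι ≫ D.obj.hom) := inferInstance
  haveI : QuasiCompact (subDD D W.ι (stableMono_of_isStable W hst)).obj.hom :=
    inferInstanceAs (QuasiCompact (W.ι ≫ D.obj.hom))
  haveI : IsSeparated (subDD D W.ι (stableMono_of_isStable W hst)).obj.hom :=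
    inferInstanceAs (IsSeparated (W.ι ≫ D.obj.hom))
  haveI : LocallyOfFiniteType (subDD D W.ι (stableMono_of_isStable W hst)).obj.hom :=
    inferInstanceAs (LocallyOfFiniteType (W.ι ≫ D.obj.hom))
  haveI : LocallyQuasiFinite (subDD D W.ι (stableMono_of_isStable W hst)).obj.hom :=
    inferInstanceAs (LocallyQuasiFinite (W.ι ≫ D.obj.hom))
  obtain ⟨U, ⟨e⟩⟩ := DG.exists_effective_of_quasiAffine
    (subDD D W.ι (stableMono_of_isStable W hst)) (P_of_sep_lqf _)
  exact ⟨_, _, _, DG.isQuot_of_iso U e⟩

end Groth.Agent.H40.DGU
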