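import Groth.Agent.H40.DGU.AffBase
import Groth.Agent.H40.DGU.Main
import Groth.Agent.H40.DG.BaseRestrict

/-!
# Separated locally quasi-finite descent data along an fppf cover are effective
-/

set_option autoImplicit false
set_option backward.isDefEq.respectTransparency.types false
universe u

open CategoryTheory CategoryTheory.Limits AlgebraicGeometry

namespace Groth.Agent.H40.DGU

open Desc Groth.Agent.H40.DQ

variable {X S : Scheme.{u}} {p : X ⟶ S}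

theorem isQuot_of_dg {D : Desc.SchDD p} {M : Scheme.{u}} {q : M ⟶ S} {m : D.obj.left ⟶ M}
    (h : DG.IsQuot D q m) : DGU.IsQuot D q m := ⟨h.w, h.inv, h.iso⟩

theorem isQuot_to_dg {D : Desc.SchDD p} {M : Scheme.{u}} {q : M ⟶ S} {m : D.obj.left ⟶ M}
    (h : DGU.IsQuot D q m) : DG.IsQuot D q m := ⟨h.w, h.inv, h.iso⟩

/-- a chart from effectivity of the base-restricted descent datum over an open of `S`. -/
theorem isChart_preimage_of_effective (D : Desc.SchDD p) (S₀ : S.Opens)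
    (H : ∀ (ha : (D.obj.hom ∣_ (p ⁻¹ᵁ S₀)) ≫ (p ⁻¹ᵁ S₀).ι =
      (DG.subDD D (D.obj.hom ⁻¹ᵁ (p ⁻¹ᵁ S₀)).ι
        (DG.stableMono_of_isStable _ (DG.isStable_preimage D S₀))).obj.hom),
      ∃ U : Over S₀.toScheme, Nonempty ((Desc.toDD (p ∣_ S₀)).obj U ≅
        DG.baseDD (isPullback_morphismRestrict p S₀).flip
          (DG.subDD D (D.obj.hom ⁻¹ᵁ (p ⁻¹ᵁ S₀)).ι
            (DG.stableMono_of_isStable _ (DG.isStable_preimage D S₀)))
          (D.obj.hom ∣_ (p ⁻¹ᵁ S₀)) ha)) :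
    DGU.IsChart D (D.obj.hom ⁻¹ᵁ (p ⁻¹ᵁ S₀)) := by
  refine ⟨DG.isStable_preimage D S₀, ?_⟩
  have sqa : IsPullback (D.obj.hom ⁻¹ᵁ (p ⁻¹ᵁ S₀)).ι (D.obj.hom ∣_ (p ⁻¹ᵁ S₀)) D.obj.hom
      (p ⁻¹ᵁ S₀).ι := (isPullback_morphismRestrict D.obj.hom (p ⁻¹ᵁ S₀)).flip
  obtain ⟨U, ⟨e⟩⟩ := H sqa.w.symm
  exact ⟨_, _, _, isQuot_of_dg (DG.isQuot_of_base (DG.isQuot_of_iso U e))⟩

theorem isChart_preimage_of_sep_lqf [Flat p] [Surjective p] [LocallyOfFinitePresentation p]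
    (D : Desc.SchDD p) [IsSeparated D.obj.hom] [LocallyQuasiFinite D.obj.hom]
    [LocallyOfFiniteType D.obj.hom] (S₀ : S.Opens) (hS₀ : IsAffineOpen S₀) :
    DGU.IsChart D (D.obj.hom ⁻¹ᵁ (p ⁻¹ᵁ S₀)) := by
  apply isChart_preimage_of_effective
  intro ha
  have sq : IsPullback (p ⁻¹ᵁ S₀).ι (p ∣_ S₀) p S₀.ι := (isPullback_morphismRestrict p S₀).flip
  have sqa : IsPullback (D.obj.hom ⁻¹ᵁ (p ⁻¹ᵁ S₀)).ι (D.obj.hom ∣_ (p ⁻¹ᵁ S₀)) D.obj.hom
      (p ⁻¹ᵁ S₀).ι := (isPullback_morphismRestrict D.obj.hom (p ⁻¹ᵁ S₀)).flip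
  haveI : IsAffine S₀.toScheme := hS₀
  haveI : Flat (p ∣_ S₀) := MorphismProperty.of_isPullback (P := @Flat) sq inferInstance
  haveI : Surjective (p ∣_ S₀) := MorphismProperty.of_isPullback (P := @Surjective) sq inferInstance
  haveI : LocallyOfFinitePresentation (p ∣_ S₀) :=
    MorphismProperty.of_isPullback (P := @LocallyOfFinitePresentation) sq inferInstance
  haveI h1 : IsSeparated (D.obj.hom ∣_ (p ⁻¹ᵁ S₀)) :=
    MorphismProperty.of_isPullback (P := @IsSeparated) sqa inferInstance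
  haveI h2 : LocallyQuasiFinite (D.obj.hom ∣_ (p ⁻¹ᵁ S₀)) :=
    MorphismProperty.of_isPullback (P := @LocallyQuasiFinite) sqa inferInstance
  haveI h3 : LocallyOfFiniteType (D.obj.hom ∣_ (p ⁻¹ᵁ S₀)) :=
    MorphismProperty.of_isPullback (P := @LocallyOfFiniteType) sqa inferInstance
  haveI : IsSeparated (DG.baseDD sq (DG.subDD D (D.obj.hom ⁻¹ᵁ (p ⁻¹ᵁ S₀)).ι
      (DG.stableMono_of_isStable _ (DG.isStable_preimage D S₀)))
      (D.obj.hom ∣_ (p ⁻¹ᵁ S₀)) ha).obj.hom := h1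
  haveI : LocallyQuasiFinite (DG.baseDD sq (DG.subDD D (D.obj.hom ⁻¹ᵁ (p ⁻¹ᵁ S₀)).ι
      (DG.stableMono_of_isStable _ (DG.isStable_preimage D S₀)))
      (D.obj.hom ∣_ (p ⁻¹ᵁ S₀)) ha).obj.hom := h2
  haveI : LocallyOfFiniteType (DG.baseDD sq (DG.subDD D (D.obj.hom ⁻¹ᵁ (p ⁻¹ᵁ S₀)).ι
      (DG.stableMono_of_isStable _ (DG.isStable_preimage D S₀)))
      (D.obj.hom ∣_ (p ⁻¹ᵁ S₀)) ha).obj.hom := h3
  exact exists_effective_affine_base (p ∣_ S₀) _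

/-- **fppf descent for separated locally quasi-finite morphisms**. -/
theorem exists_effective_of_sep_lqf (p : X ⟶ S) [Flat p] [Surjective p]
    [LocallyOfFinitePresentation p] (D : Desc.SchDD p) [IsSeparated D.obj.hom]
    [LocallyQuasiFinite D.obj.hom] [LocallyOfFiniteType D.obj.hom] :
    ∃ U : Over S, Nonempty ((Desc.toDD p).obj U ≅ D) := by
  haveI : UCov p := ucov_of_fppf p
  apply DGU.exists_effective_of_covers
  intro v
  obtain ⟨_, ⟨S₀, hS₀, rfl⟩, hs, -⟩ :=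
    S.isBasis_affineOpens.exists_subset_of_mem_open (Set.mem_univ (p (D.obj.hom v))) isOpen_univ
  exact ⟨⟨_, isChart_preimage_of_sep_lqf D S₀ hS₀⟩, hs⟩

end Groth.Agent.H40.DGU
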