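import Groth.Agent.H40.DG.Sub
import Mathlib.AlgebraicGeometry.Sites.Fpqc
import Mathlib.AlgebraicGeometry.Morphisms.FlatDescent
import Mathlib.AlgebraicGeometry.Morphisms.UniversallyOpen

/-!
# Universal covers: morphisms all of whose base changes are effective epimorphisms and
topological quotient maps (fpqc and fppf covers)
-/

set_option autoImplicit false
set_option backward.isDefEq.respectTransparency.types false
universe u

open CategoryTheory CategoryTheory.Limits AlgebraicGeometry

namespace Groth.Agent.H40.DGU

/-- every base change of `p` is an effective epimorphism and a topological quotient map. -/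
class UCov {X S : Scheme.{u}} (p : X ⟶ S) : Prop where
  effectiveEpi : ∀ {Y T : Scheme.{u}} (fst : Y ⟶ X) (f : Y ⟶ T) (g : T ⟶ S),
    IsPullback fst f p g → EffectiveEpi f
  isQuotientMap : ∀ {Y T : Scheme.{u}} (fst : Y ⟶ X) (f : Y ⟶ T) (g : T ⟶ S),
    IsPullback fst f p g → Topology.IsQuotientMap f

variable {X S : Scheme.{u}} (p : X ⟶ S)

theorem ucov_of_fpqc [Flat p] [Surjective p] [QuasiCompact p] : UCov p where
  effectiveEpi fst f g sq := by
    haveI : Flat f := MorphismProperty.of_isPullback (P := @Flat) sq inferInstance
    haveI : Surjective f := MorphismProperty.of_isPullback (P := @Surjective) sq inferInstance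
    haveI : QuasiCompact f := MorphismProperty.of_isPullback (P := @QuasiCompact) sq inferInstance
    infer_instance
  isQuotientMap fst f g sq := by
    haveI : Flat f := MorphismProperty.of_isPullback (P := @Flat) sq inferInstance
    haveI : Surjective f := MorphismProperty.of_isPullback (P := @Surjective) sq inferInstance
    haveI : QuasiCompact f := MorphismProperty.of_isPullback (P := @QuasiCompact) sq inferInstance
    exact Flat.isQuotientMap_of_surjective f

theorem ucov_of_fppf [Flat p] [Surjective p] [LocallyOfFinitePresentation p] : UCov p where
  effectiveEpi fst f g sq := by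
    haveI : Flat f := MorphismProperty.of_isPullback (P := @Flat) sq inferInstance
    haveI : Surjective f := MorphismProperty.of_isPullback (P := @Surjective) sq inferInstance
    haveI : LocallyOfFinitePresentation f :=
      MorphismProperty.of_isPullback (P := @LocallyOfFinitePresentation) sq inferInstance
    infer_instance
  isQuotientMap fst f g sq := by
    haveI : Flat f := MorphismProperty.of_isPullback (P := @Flat) sq inferInstance
    haveI : Surjective f := MorphismProperty.of_isPullback (P := @Surjective) sq inferInstance
    haveI : LocallyOfFinitePresentation f :=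
      MorphismProperty.of_isPullback (P := @LocallyOfFinitePresentation) sq inferInstance
    exact f.isOpenMap.isQuotientMap f.continuous f.surjective

/-- universal covers are stable under base change. -/
theorem UCov.of_isPullback [UCov p] {X' S' : Scheme.{u}} {i' : X' ⟶ X} {p' : X' ⟶ S'}
    {i : S' ⟶ S} (sq : IsPullback i' p' p i) : UCov p' where
  effectiveEpi fst f g sq' := UCov.effectiveEpi (p := p) (fst ≫ i') f (g ≫ i) (sq'.paste_horiz sq)
  isQuotientMap fst f g sq' :=
    UCov.isQuotientMap (p := p) (fst ≫ i') f (g ≫ i) (sq'.paste_horiz sq)

theorem UCov.self_effectiveEpi [UCov p] : EffectiveEpi p :=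
  UCov.effectiveEpi (p := p) (𝟙 X) p (𝟙 S) IsPullback.of_id_snd.flip

theorem UCov.self_isQuotientMap [UCov p] : Topology.IsQuotientMap p :=
  UCov.isQuotientMap (p := p) (𝟙 X) p (𝟙 S) IsPullback.of_id_snd.flip

end Groth.Agent.H40.DGU
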